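import Groth.Agent.Lib.EtZero9.Main

/-!
# Constant sheaves of sets and constant sheaves of groups
-/

set_option autoImplicit false
set_option backward.isDefEq.respectTransparency.types false

universe u

open CategoryTheory CategoryTheory.Limits AlgebraicGeometry Opposite

namespace Groth.Agent.EtZero9

open Groth.Agent.EtStalk

/-- The constant presheaf of groups. -/
noncomputable abbrev constPre (Y : Scheme.{u}) (M : AddCommGrpCat.{u + 1}) : Y.Etaleᵒᵖ ⥤ AddCommGrpCat.{u + 1} :=
  (Functor.const Y.Etaleᵒᵖ).obj M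

/-- The constant presheaf of sets. -/
noncomputable abbrev constPreT (Y : Scheme.{u}) (J : Type (u + 1)) : Y.Etaleᵒᵖ ⥤ Type (u + 1) :=
  (Functor.const Y.Etaleᵒᵖ).obj J

/-- The constant sheaf of sets. -/
noncomputable abbrev constT (Y : Scheme.{u}) (J : Type (u + 1)) : EtDesc.Sh Y :=
  (constantSheaf Y.smallEtaleTopology (Type (u + 1))).obj J

/-- The constant sheaf of groups. -/
noncomputable abbrev constA (Y : Scheme.{u}) (M : AddCommGrpCat.{u + 1}) : EtCoh.Ab Y :=
  (constantSheaf Y.smallEtaleTopology AddCommGrpCat.{u + 1}).obj M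

variable {X Y : Scheme.{u}} {M : AddCommGrpCat.{u + 1}} {J : Type (u + 1)}

/-- From the constant sheaf of groups to a constant sheaf of sets along a map of sets. -/
noncomputable def toConstT (Y : Scheme.{u}) (χ : (↑M : Type (u + 1)) → J) :
    (toSets Y).obj (constA Y M) ⟶ constT Y J :=
  ⟨(sheafifyComposeIso Y.smallEtaleTopology (forget AddCommGrpCat.{u + 1}) (constPre Y M)).inv ≫
    sheafifyMap Y.smallEtaleTopology
      ({ app := fun _ => ↾χ } : constPre Y M ⋙ forget AddCommGrpCat.{u + 1} ⟶ constPreT Y J)⟩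

/-- From a constant sheaf of sets to the constant sheaf of groups along a map of sets. -/
noncomputable def ofConstT (Y : Scheme.{u}) (ψ : J → (↑M : Type (u + 1))) :
    constT Y J ⟶ (toSets Y).obj (constA Y M) :=
  ⟨sheafifyLift Y.smallEtaleTopology
    (({ app := fun _ => ↾ψ } : constPreT Y J ⟶ constPre Y M ⋙ forget AddCommGrpCat.{u + 1}) ≫
      Functor.whiskerRight (toSheafify Y.smallEtaleTopology (constPre Y M)) (forget AddCommGrpCat.{u + 1}))
    ((toSets Y).obj (constA Y M)).property⟩

lemma toConstT_ofConstT (χ : (↑M : Type (u + 1)) → J) (ψ : J → (↑M : Type (u + 1))) (V : Y.Etale) (c : M) :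
    (ofConstT Y ψ).hom.app (op V) ((toConstT Y χ).hom.app (op V)
      ((toSheafify Y.smallEtaleTopology (constPre Y M)).app (op V) c)) =
      (toSheafify Y.smallEtaleTopology (constPre Y M)).app (op V) (ψ (χ c)) := by
  let ω : constPre Y M ⋙ forget AddCommGrpCat.{u + 1} ⟶ constPreT Y J := { app := fun _ => ↾χ }
  let ω' : constPreT Y J ⟶ constPre Y M ⋙ forget AddCommGrpCat.{u + 1} := { app := fun _ => ↾ψ }
  have h1 : Functor.whiskerRight (toSheafify Y.smallEtaleTopology (constPre Y M)) (forget AddCommGrpCat.{u + 1}) ≫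
      (toConstT Y χ).hom ≫ (ofConstT Y ψ).hom = ω ≫ ω' ≫
        Functor.whiskerRight (toSheafify Y.smallEtaleTopology (constPre Y M)) (forget AddCommGrpCat.{u + 1}) := by
    show Functor.whiskerRight _ _ ≫ ((sheafifyComposeIso Y.smallEtaleTopology (forget AddCommGrpCat.{u + 1})
      (constPre Y M)).inv ≫ sheafifyMap Y.smallEtaleTopology ω) ≫ sheafifyLift Y.smallEtaleTopology _ _ = _
    rw [Category.assoc, sheafComposeIso_inv_fac_assoc, ← toSheafify_naturality_assoc,
      toSheafify_sheafifyLift]
    rfl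
  exact ConcreteCategory.congr_hom (NatTrans.congr_app h1 (op V)) c

variable (f : X ⟶ Y)

/-- Evaluation of the inverse image of an endomorphism at a stalk. -/
lemma germ_phi_map (e : (toSets Y).obj (constA Y M) ⟶ (toSets Y).obj (constA Y M))
    (σ : ((EtDesc.pullSh f).obj ((toSets Y).obj (constA Y M))).obj.obj (op (EtCoh.top X)))
    {Ω : Type u} [Field Ω] [IsSepClosed Ω] (ξ : Spec (CommRingCat.of Ω) ⟶ X) (x : fib ξ (EtCoh.top X))
    {V : Y.Etale} (y : fib (ξ ≫ f) V) (t : (constA Y M).obj.obj (op V))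
    (h : Sets.stalkPull f ξ _ (Sets.germ (ξ ≫ f) ((toSets Y).obj (constA Y M)) y t) = Sets.germ ξ _ x σ) :
    germ ξ ((EtCoh.pull f).obj (constA Y M)) x
        ((phi f (constA Y M)).hom.app (op (EtCoh.top X)) (((EtDesc.pullSh f).map e).hom.app (op (EtCoh.top X)) σ)) =
      germ ξ ((EtCoh.pull f).obj (constA Y M)) (liftFib f ξ y)
        (((EtCoh.pullPushAdj f).unit.app (constA Y M)).hom.app (op V) (e.hom.app (op V) t)) := by
  rw [← sets_germ_eq_iff, ← phi_unit, ← Sets.germ_nat, ← Sets.germ_nat, ← Sets.germ_nat, ← h,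
    ← Sets.germ_stalkPull, ← Sets.germ_nat]
  refine congrArg ((Sets.stalk ξ).map (phi f (constA Y M))) ?_
  exact (ConcreteCategory.congr_hom (Sets.stalkPull_nat f ξ e) _)

variable [Surjective f]

/-- Pullback of sections of a finite constant sheaf of groups is surjective as soon as it is so for a constant sheaf of
sets with two elements. -/
theorem surjective_secAb [Fintype (↑M : Type (u + 1))] {a b : J} (hab : a ≠ b)
    (hJ : Function.Surjective (EtDesc.secPull f (constT Y J))) :
    Function.Surjective (secAb f (constA Y M)) := by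
  classical
  intro η
  haveI : IsIso (phi f (constA Y M)).hom := inferInstanceAs (IsIso ((sheafToPresheaf X.smallEtaleTopology (Type (u + 1))).map (phi f (constA Y M))))
  obtain ⟨σ, rfl⟩ := ((isIso_iff_bijective ((phi f (constA Y M)).hom.app (op (EtCoh.top X)))).1
    inferInstance).2 η
  let χ : (↑M : Type (u + 1)) → (↑M : Type (u + 1)) → J := fun j c => if c = j then a else b
  let ψ : (↑M : Type (u + 1)) → J → (↑M : Type (u + 1)) := fun j i => if i = a then j else 0
  have hsum : ∀ c : M, ∑ j, ψ j (χ j c) = c := by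
    intro c
    rw [Finset.sum_eq_single c]
    · simp [χ, ψ]
    · intro j _ hj
      simp [χ, ψ, Ne.symm hj, hab.symm]
    · simp
  let e : (↑M : Type (u + 1)) → ((toSets Y).obj (constA Y M) ⟶ (toSets Y).obj (constA Y M)) :=
    fun j => toConstT Y (χ j) ≫ ofConstT Y (ψ j)
  let E : ∀ (_ : (↑M : Type (u + 1))) (V : Y.Etale), (constA Y M).obj.obj (op V) → (constA Y M).obj.obj (op V) :=
    fun j V t => (e j).hom.app (op V) t
  have hsum' : ∀ (V : Y.Etale) (t : (constA Y M).obj.obj (op V)), ∑ j, E j V t = t := by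
    intro V t
    have hS := Presheaf.imageSieve_mem Y.smallEtaleTopology (toSheafify Y.smallEtaleTopology (constPre Y M)) t
    refine ((((isSheaf_iff_isSheaf_of_type _ _).1 ((toSets Y).obj (constA Y M)).property) _ hS).isSeparatedFor.ext ?_)
    intro W g ⟨c, hc⟩
    show (constA Y M).obj.map g.op (∑ j, _) = (constA Y M).obj.map g.op t
    rw [map_sum]
    refine Eq.trans (Finset.sum_congr rfl fun j _ => ?_) (Eq.trans (map_sum
      ((toSheafify Y.smallEtaleTopology (constPre Y M)).app (op W)).hom (fun j => ψ j (χ j c)) _).symm ?_)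
    · refine (ConcreteCategory.congr_hom ((e j).hom.naturality g.op) t).symm.trans ?_
      refine Eq.trans (congrArg ((e j).hom.app (op W)) hc.symm) ?_
      exact toConstT_ofConstT (χ j) (ψ j) W c
    · rw [hsum]
      exact hc
  choose τ hτ using fun j => hJ (((EtDesc.pullSh f).map (toConstT Y (χ j))).hom.app _ σ)
  refine ⟨∑ j, (ofConstT Y (ψ j)).hom.app (op (EtCoh.top Y)) (τ j), ?_⟩
  rw [map_sum]
  have hj : ∀ j, secAb f (constA Y M) ((ofConstT Y (ψ j)).hom.app (op (EtCoh.top Y)) (τ j)) =
      (phi f (constA Y M)).hom.app (op (EtCoh.top X))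
        (((EtDesc.pullSh f).map (e j)).hom.app (op (EtCoh.top X)) σ) := by
    intro j
    refine (phi_secPull f (constA Y M) ((ofConstT Y (ψ j)).hom.app (op (EtCoh.top Y)) (τ j))).symm.trans
      (congrArg _ ?_)
    rw [← EtDesc24.secPull_nat, hτ]
    show _ = ((EtDesc.pullSh f).map (toConstT Y (χ j) ≫ ofConstT Y (ψ j))).hom.app _ σ
    rw [Functor.map_comp]
    rfl
  rw [Finset.sum_congr rfl fun j _ => hj j]
  refine EtStalk.ext_germ _ _ fun Ω _ _ ξ x => ?_
  obtain ⟨p, hp⟩ := (ConcreteCategory.bijective_of_isIso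
    (Sets.stalkPull f ξ ((toSets Y).obj (constA Y M)))).2 (Sets.germ ξ _ x σ)
  obtain ⟨V, y, t, rfl⟩ := Sets.germ_surjective (ξ ≫ f) _ p
  rw [map_sum]
  refine (Finset.sum_congr rfl fun j _ => germ_phi_map f (e j) σ ξ x y t hp).trans ?_
  refine ((map_sum ((((EtCoh.pullPushAdj f).unit.app (constA Y M)).hom.app (op V) ≫
    germ ξ ((EtCoh.pull f).obj (constA Y M)) (liftFib f ξ y)).hom) (fun j => E j V t) Finset.univ).symm).trans ?_
  rw [hsum' V t]
  have h1 := germ_phi_map f (𝟙 _) σ ξ x y t hp
  rw [CategoryTheory.Functor.map_id] at h1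
  exact h1.symm

omit [Surjective f] in
/-- A nonempty scheme has different constant sections. -/
theorem exists_ne_sections (T : Scheme.{u}) [Nonempty T] {a b : J} (hab : a ≠ b) :
    ∃ s t : EtDesc.sect (constT T J) (EtCoh.top T), s ≠ t := by
  refine ⟨(toSheafify T.smallEtaleTopology (constPreT T J)).app (op (EtCoh.top T)) a,
    (toSheafify T.smallEtaleTopology (constPreT T J)).app (op (EtCoh.top T)) b, fun h => hab ?_⟩
  have hS := Presheaf.equalizerSieve_mem T.smallEtaleTopology
    (toSheafify T.smallEtaleTopology (constPreT T J)) (X := op (EtCoh.top T)) a b h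
  obtain ⟨x⟩ := ‹Nonempty T›
  rw [EtSite.mem_et_iff] at hS
  obtain ⟨W, g, _, hg, -⟩ := hS x
  exact hg

omit [Surjective f] in
/-- An empty scheme has one section at most. -/
theorem subsingleton_sect_of_isEmpty (T : Scheme.{u}) [IsEmpty T] (F : EtDesc.Sh T) :
    Subsingleton (EtDesc.sect F (EtCoh.top T)) :=
  ⟨fun s t => Sets.ext_germ s t fun Ω _ _ ξ _ => isEmptyElim (ξ default)⟩

omit [Surjective f] in
/-- Injectivity for a nontrivial constant sheaf over all locally quasi-finite schemes gives surjectivity. -/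
theorem surjective_of_injective_const [QuasiCompact f] {a b : J} (hab : a ≠ b)
    (h : ∀ (Y' : Scheme.{u}) (i : Y' ⟶ Y) [LocallyQuasiFinite i] [LocallyOfFiniteType i],
        Function.Injective (EtDesc.secPull (pullback.snd f i) (constT Y' J))) :
    Function.Surjective f := by
  intro y
  by_contra hy
  have hy' : y ∉ Set.range f := hy
  have hC := EtAcyc24.notMem_closure f hy'
  let I := Scheme.IdealSheafData.vanishingIdeal ⟨closure {y}, isClosed_closure⟩
  have hI : Set.range I.subschemeι = closure {y} := by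
    rw [Scheme.IdealSheafData.range_subschemeι, Scheme.IdealSheafData.coe_support_vanishingIdeal]
    rfl
  obtain ⟨η, hη⟩ : y ∈ Set.range I.subschemeι := hI.symm ▸ subset_closure rfl
  let U : I.subscheme.Opens := ⟨I.subschemeι ⁻¹' (closure (Set.range f ∩ closure {y}))ᶜ,
    isClosed_closure.isOpen_compl.preimage I.subschemeι.continuous⟩
  let i : U.toScheme ⟶ Y := U.ι ≫ I.subschemeι
  haveI : Nonempty U.toScheme := ⟨⟨η, show I.subschemeι η ∉ closure (Set.range f ∩ closure {y}) by rw [hη]; exact hC⟩⟩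
  haveI : IsEmpty (pullback f i : Scheme.{u}) := ⟨fun z => by
    have h1 : f (pullback.fst f i z) = I.subschemeι (U.ι (pullback.snd f i z)) := by
      rw [← Scheme.Hom.comp_apply, pullback.condition]
      rfl
    exact ((pullback.snd f i z : U) : U).2 (subset_closure
      ⟨⟨_, h1⟩, hI ▸ Set.mem_range_self (U.ι (pullback.snd f i z))⟩)⟩
  obtain ⟨s, t, hst⟩ := exists_ne_sections U.toScheme hab
  haveI := subsingleton_sect_of_isEmpty (pullback f i) ((EtDesc.pullSh (pullback.snd f i)).obj (constT U.toScheme J))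
  exact hst (h U.toScheme i (Subsingleton.elim _ _))

end Groth.Agent.EtZero9
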