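import Groth.Agent.Lib.EtZero9.Forget
import Groth.Agent.Lib.EtAcyc24.LqfCriterion
import Mathlib.Data.Finsupp.Basic
import Mathlib.Algebra.CharP.Two

/-!
# A sheaf of sets embeds into a sheaf of groups killed by two
-/

set_option autoImplicit false
set_option backward.isDefEq.respectTransparency.types false

universe u

open CategoryTheory CategoryTheory.Limits AlgebraicGeometry Opposite

namespace Groth.Agent.EtZero9

open Groth.Agent.EtStalk

/-- The free vector space over the field with two elements. -/
noncomputable def freeTwo : Type (u + 1) ⥤ AddCommGrpCat.{u + 1} where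
  obj α := AddCommGrpCat.of (α →₀ ZMod 2)
  map f := AddCommGrpCat.ofHom (Finsupp.mapDomain.addMonoidHom f)
  map_id α := AddCommGrpCat.hom_ext (AddMonoidHom.ext fun x => Finsupp.mapDomain_id (v := x))
  map_comp f g := AddCommGrpCat.hom_ext (AddMonoidHom.ext fun x => Finsupp.mapDomain_comp (f := ⇑(ConcreteCategory.hom f)) (g := ⇑(ConcreteCategory.hom g)) (v := x))

variable {X : Scheme.{u}}

/-- The free sheaf over the field with two elements. -/
noncomputable def freeSh (F : EtDesc.Sh X) : EtCoh.Ab X :=
  (presheafToSheaf X.smallEtaleTopology AddCommGrpCat.{u + 1}).obj (F.obj ⋙ freeTwo)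

lemma two_nsmul_finsupp {α : Type (u + 1)} (x : α →₀ ZMod 2) : 2 • x = 0 :=
  Finsupp.ext fun a => by
    rw [Finsupp.smul_apply, Finsupp.zero_apply, two_nsmul, CharTwo.add_self_eq_zero]

lemma two_nsmul_id_freeSh (F : EtDesc.Sh X) : (2 : ℕ) • 𝟙 (freeSh F) = 0 := by
  refine Sheaf.hom_ext (sheafify_hom_ext _ _ _ (freeSh F).property ?_)
  refine NatTrans.ext (funext fun U => AddCommGrpCat.hom_ext (AddMonoidHom.ext fun x => ?_))
  show 2 • (toSheafify X.smallEtaleTopology (F.obj ⋙ freeTwo)).app U x = 0
  rw [← map_nsmul]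
  convert map_zero ((toSheafify X.smallEtaleTopology (F.obj ⋙ freeTwo)).app U).hom
  exact two_nsmul_finsupp x

lemma isLTorsion_freeSh (F : EtDesc.Sh X) : EtAcyc.IsLTorsion {2} (freeSh F) :=
  EtAcyc24.isLTorsion_of_nsmul {2} (m := 2)
    ⟨two_pos, fun _ hp hd => (Nat.prime_dvd_prime_iff_eq hp Nat.prime_two).1 hd⟩ (two_nsmul_id_freeSh F)

/-- The map into the free sheaf. -/
noncomputable def toFree (F : EtDesc.Sh X) : F ⟶ (toSets X).obj (freeSh F) :=
  ⟨{ app := fun U => ↾fun s => (toSheafify X.smallEtaleTopology (F.obj ⋙ freeTwo)).app U (Finsupp.single s 1)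
     naturality := fun U V g => by
      ext s
      show (toSheafify X.smallEtaleTopology (F.obj ⋙ freeTwo)).app V (Finsupp.single (F.obj.map g s) 1) =
        (freeSh F).obj.map g ((toSheafify X.smallEtaleTopology (F.obj ⋙ freeTwo)).app U (Finsupp.single s 1))
      refine Eq.trans ?_ (ConcreteCategory.congr_hom
        ((toSheafify X.smallEtaleTopology (F.obj ⋙ freeTwo)).naturality g) (Finsupp.single s 1))
      exact congrArg _ (Finsupp.mapDomain_single).symm }⟩

instance mono_toFree (F : EtDesc.Sh X) : Mono (toFree F) := by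
  rw [Sets.mono_iff_app_injective]
  intro U s t h
  obtain ⟨U⟩ := U
  have hS := Presheaf.equalizerSieve_mem X.smallEtaleTopology
    (toSheafify X.smallEtaleTopology (F.obj ⋙ freeTwo)) (X := op U) (Finsupp.single s 1) (Finsupp.single t 1) h
  refine ((((isSheaf_iff_isSheaf_of_type _ _).1 F.property) _ hS).isSeparatedFor.ext ?_)
  intro V g hg
  have hg' : Finsupp.mapDomain (F.obj.map g.op) (Finsupp.single s (1 : ZMod 2)) =
      Finsupp.mapDomain (F.obj.map g.op) (Finsupp.single t 1) := hg
  rw [Finsupp.mapDomain_single, Finsupp.mapDomain_single] at hg'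
  exact Finsupp.single_left_injective one_ne_zero hg'

end Groth.Agent.EtZero9
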