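import Groth.Prelude.Def_EtAcyc
import Groth.Agent.Lib.EtStalk.Pull
import Groth.Agent.Lib.EtStalk.Sets.Pull
import Groth.Agent.Lib.EtDesc24.SecPull
import Groth.Agent.Lib.LocAcycBC6.ConnConst

/-!
# Inverse images of abelian sheaves seen as sheaves of sets
-/

set_option autoImplicit false
set_option backward.isDefEq.respectTransparency.types false

universe u

open CategoryTheory CategoryTheory.Limits AlgebraicGeometry Opposite CategoryTheory.Abelian

namespace Groth.Agent.EtZero9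

open Groth.Agent.EtStalk

variable {X Y : Scheme.{u}}

/-- The underlying sheaf of sets. -/
noncomputable abbrev toSets (X : Scheme.{u}) : EtCoh.Ab X ⥤ EtDesc.Sh X :=
  sheafCompose X.smallEtaleTopology (forget AddCommGrpCat.{u + 1})

/-- The comparison of the inverse images. -/
noncomputable def phi (f : X ⟶ Y) (G : EtCoh.Ab Y) :
    (EtDesc.pullSh f).obj ((toSets Y).obj G) ⟶ (toSets X).obj ((EtCoh.pull f).obj G) :=
  ((EtDesc.adjSh f).homEquiv _ _).symm
    ((toSets Y).map ((EtCoh.pullPushAdj f).unit.app G) :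
      (toSets Y).obj G ⟶ (EtDesc.pushSh f).obj ((toSets X).obj ((EtCoh.pull f).obj G)))

lemma unit_phi (f : X ⟶ Y) (G : EtCoh.Ab Y) :
    (EtDesc.adjSh f).unit.app ((toSets Y).obj G) ≫ (EtDesc.pushSh f).map (phi f G) =
      ((toSets Y).map ((EtCoh.pullPushAdj f).unit.app G) :
        (toSets Y).obj G ⟶ (EtDesc.pushSh f).obj ((toSets X).obj ((EtCoh.pull f).obj G))) :=
  (Adjunction.homEquiv_unit (EtDesc.adjSh f) _ _ _).symm.trans (Equiv.apply_symm_apply _ _)

lemma phi_unit (f : X ⟶ Y) (G : EtCoh.Ab Y) {V : Y.Etale} (t : G.obj.obj (op V)) :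
    (phi f G).hom.app (op ((EtCoh.bc f).obj V))
      (((EtDesc.adjSh f).unit.app ((toSets Y).obj G)).hom.app (op V) t) =
      ((EtCoh.pullPushAdj f).unit.app G).hom.app (op V) t :=
  congrArg (fun m : (toSets Y).obj G ⟶ (EtDesc.pushSh f).obj ((toSets X).obj ((EtCoh.pull f).obj G)) =>
    m.hom.app (op V) t) (unit_phi f G)

/-- Pullback of global sections of an abelian sheaf. -/
noncomputable def secAb (f : X ⟶ Y) (G : EtCoh.Ab Y) :
    G.obj.obj (op (EtCoh.top Y)) →+ ((EtCoh.pull f).obj G).obj.obj (op (EtCoh.top X)) :=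
  (((EtCoh.pull f).obj G).obj.map (EtCore.bcTopIso f).inv.op).hom.comp
    (((EtCoh.pullPushAdj f).unit.app G).hom.app (op (EtCoh.top Y))).hom

lemma phi_secPull (f : X ⟶ Y) (G : EtCoh.Ab Y) (s : G.obj.obj (op (EtCoh.top Y))) :
    (phi f G).hom.app (op (EtCoh.top X)) (EtDesc.secPull f ((toSets Y).obj G) s) = secAb f G s := by
  rw [EtDesc24.secPull_eq, NatTrans.naturality_apply]
  exact congrArg _ (phi_unit f G s)

/-- Degree zero pullback is pullback of sections. -/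
lemma H0_Hpull (f : X ⟶ Y) [PreservesFiniteLimits (EtCoh.pull f)] (G : EtCoh.Ab Y) (z : EtCoh.H Y G 0) :
    LocAcycBC6.H0AddEquiv X _ (EtCore.Hpull f G 0 z) = secAb f G (LocAcycBC6.H0AddEquiv Y G z) := by
  obtain ⟨a, rfl⟩ := (Ext.mk₀_bijective _ _).2 z
  rw [Hpull_eq, Ext.mapExactFunctor_mk₀, Ext.mk₀_comp_mk₀]
  simp only [LocAcycBC6.H0AddEquiv, AddEquiv.trans_apply, AddEquiv.ofBijective_apply]
  have e1 : ∀ {Z : Scheme.{u}} {H : EtCoh.Ab Z} (b : EtCoh.const Z ℤ ⟶ H), Ext.addEquiv₀ (Ext.mk₀ b) = b :=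
    fun b => Ext.addEquiv₀.apply_symm_apply b
  rw [e1, e1]
  show ((EtCoh.pull f).map a).hom.app _ ((EtCore.pullConst f ℤ).inv.hom.app _ (oneSec X)) =
    secAb f G (a.hom.app _ (oneSec Y))
  rw [pullConst_inv_one, NatTrans.naturality_apply]
  refine congrArg (((EtCoh.pull f).obj G).obj.map (EtCore.bcTopIso f).inv.op) ?_
  exact (congrArg (fun t : EtCoh.const Y ℤ ⟶ (EtCoh.push f).obj ((EtCoh.pull f).obj G) =>
    t.hom.app (op (EtCoh.top Y)) (oneSec Y)) ((EtCoh.pullPushAdj f).unit.naturality a)).symm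

section Stalk

variable {Ω : Type u} [Field Ω] [IsSepClosed Ω] (ξ : Spec (CommRingCat.of Ω) ⟶ X)

lemma sets_germ_eq_iff (G : EtCoh.Ab X) {U V : X.Etale} (x : fib ξ U) (y : fib ξ V)
    (s : G.obj.obj (op U)) (t : G.obj.obj (op V)) :
    Sets.germ ξ ((toSets X).obj G) x s = Sets.germ ξ ((toSets X).obj G) y t ↔
      germ ξ G x s = germ ξ G y t := by
  obtain ⟨⟨W, z⟩, ⟨gU, hgU⟩, ⟨gV, hgV⟩, -⟩ :=
    IsCofilteredOrEmpty.cone_objs (C := (Scheme.pointSmallEtale ξ).fiber.Elements) ⟨U, x⟩ ⟨V, y⟩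
  dsimp at hgU hgV
  rw [← hgU, ← hgV, ← germ_map, ← germ_map, ← Sets.germ_map, ← Sets.germ_map, germ_eq_iff,
    Sets.germ_eq_iff]
  rfl

end Stalk

instance isIso_phi (f : X ⟶ Y) (G : EtCoh.Ab Y) : IsIso (phi f G) := by
  rw [Sets.isIso_iff_stalk]
  intro Ω _ _ ξ
  constructor
  · intro p q hpq
    obtain ⟨p', rfl⟩ := (ConcreteCategory.bijective_of_isIso (Sets.stalkPull f ξ ((toSets Y).obj G))).2 p
    obtain ⟨q', rfl⟩ := (ConcreteCategory.bijective_of_isIso (Sets.stalkPull f ξ ((toSets Y).obj G))).2 q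
    obtain ⟨U, x, s, rfl⟩ := Sets.germ_surjective (ξ ≫ f) _ p'
    obtain ⟨V, y, t, rfl⟩ := Sets.germ_surjective (ξ ≫ f) _ q'
    refine congrArg _ ((sets_germ_eq_iff (ξ ≫ f) G x y s t).2 ?_)
    refine (ConcreteCategory.bijective_of_isIso (stalkPull f ξ G)).1 ?_
    rw [germ_stalkPull, germ_stalkPull, ← sets_germ_eq_iff, ← phi_unit, ← phi_unit,
      ← Sets.germ_nat, ← Sets.germ_nat, ← Sets.germ_stalkPull, ← Sets.germ_stalkPull]
    exact hpq
  · intro p
    obtain ⟨V, y, t, rfl⟩ := Sets.germ_surjective ξ _ p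
    obtain ⟨r, hr⟩ := (ConcreteCategory.bijective_of_isIso (stalkPull f ξ G)).2
      (germ ξ ((EtCoh.pull f).obj G) y t)
    obtain ⟨U, x, s, rfl⟩ := germ_surjective (ξ ≫ f) G r
    rw [germ_stalkPull, ← sets_germ_eq_iff, ← phi_unit, ← Sets.germ_nat, ← Sets.germ_stalkPull] at hr
    exact ⟨_, hr⟩

/-- The units for sets and for groups are isomorphisms together. -/
theorem isIso_unit_iff (f : X ⟶ Y) (G : EtCoh.Ab Y) :
    IsIso ((EtCoh.pullPushAdj f).unit.app G) ↔ IsIso ((EtDesc.adjSh f).unit.app ((toSets Y).obj G)) := by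
  haveI : IsIso ((EtDesc.pushSh f).map (phi f G)) := inferInstance
  haveI : (toSets Y).ReflectsIsomorphisms := inferInstance
  rw [← isIso_iff_of_reflects_iso _ (toSets Y)]
  constructor
  · intro h
    have : IsIso ((EtDesc.adjSh f).unit.app ((toSets Y).obj G) ≫ (EtDesc.pushSh f).map (phi f G)) := by
      rw [unit_phi]; exact h
    exact IsIso.of_isIso_comp_right _ ((EtDesc.pushSh f).map (phi f G))
  · intro h
    have : IsIso ((EtDesc.adjSh f).unit.app ((toSets Y).obj G) ≫ (EtDesc.pushSh f).map (phi f G)) :=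
      inferInstance
    rw [unit_phi] at this
    exact this

end Groth.Agent.EtZero9
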