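import Groth.Agent.Lib.EtZero9.Embed
import Groth.Agent.Lib.EtAcyc24.MinusOne
import Groth.Agent.Lib.EtAcyc24.Comp
import Groth.Agent.Lib.EtAcyc24.LqfMain
import Groth.Agent.S3510

/-!
# Zero-acyclicity for sets and for groups killed by two
-/

set_option autoImplicit false
set_option backward.isDefEq.respectTransparency.types false

universe u

open CategoryTheory CategoryTheory.Limits AlgebraicGeometry Opposite

namespace Groth.Agent.EtZero9

open Groth.Agent.EtStalk

variable {X Y : Scheme.{u}}

/-- A section of the inverse image of a subsheaf which comes from the ambient sheaf comes from the subsheaf. -/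
theorem mem_range_unit_of_mono (f : X ⟶ Y) (hmono : ∀ F : EtDesc.Sh Y, Mono ((EtDesc.adjSh f).unit.app F))
    {F G : EtDesc.Sh Y} (a : F ⟶ G) [Mono a] (W : Y.Etale)
    (ξ : ((EtDesc.pullSh f).obj F).obj.obj (op ((EtCoh.bc f).obj W)))
    (hξ : ((EtDesc.pullSh f).map a).hom.app (op ((EtCoh.bc f).obj W)) ξ ∈
      Set.range (((EtDesc.adjSh f).unit.app G).hom.app (op W))) :
    ξ ∈ Set.range (((EtDesc.adjSh f).unit.app F).hom.app (op W)) := by
  obtain ⟨s, hs⟩ := hξ
  have hB : IsPullback a a (pushout.inl a a) (pushout.inr a a) :=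
    Adhesive.isPullback_of_isPushout_of_mono_left (IsPushout.of_hasPushout a a)
  have hn : ∀ {A B : EtDesc.Sh Y} (m : A ⟶ B) (x : A.obj.obj (op W)),
      ((EtDesc.adjSh f).unit.app B).hom.app (op W) (m.hom.app (op W) x) =
      ((EtDesc.pullSh f).map m).hom.app (op ((EtCoh.bc f).obj W))
        (((EtDesc.adjSh f).unit.app A).hom.app (op W) x) := fun {A B} m x =>
    congrArg (fun q : A ⟶ (EtDesc.pushSh f).obj ((EtDesc.pullSh f).obj B) => q.hom.app (op W) x)
      ((EtDesc.adjSh f).unit.naturality m)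
  have e : (pushout.inl a a).hom.app (op W) s = (pushout.inr a a).hom.app (op W) s := by
    refine (Sets.mono_iff_app_injective _).1 (hmono _) (op W) ?_
    rw [hn, hn, hs]
    have := congrArg (fun m => ((EtDesc.pullSh f).map m).hom.app (op ((EtCoh.bc f).obj W)) ξ)
      (pushout.condition (f := a) (g := a))
    simp only [Functor.map_comp, ObjectProperty.FullSubcategory.comp_hom, NatTrans.comp_app, ConcreteCategory.comp_apply] at this
    exact this
  obtain ⟨t, ht, -⟩ := Types.exists_of_isPullback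
    (hB.map (sheafToPresheaf _ _ ⋙ (evaluation _ _).obj (op W))) s s e
  refine ⟨t, ?_⟩
  have := Sets.mono_pull_map f a
  refine (Sets.mono_iff_app_injective ((EtDesc.pullSh f).map a)).1 inferInstance _ ?_
  exact (hn a t).symm.trans ((congrArg _ ht).trans hs)

/-- Units for sets are isomorphisms if those for groups killed by two are. -/
theorem isIso_unit_of_ab (f : X ⟶ Y) [Surjective f]
    (h : ∀ G : EtCoh.Ab Y, EtAcyc.IsLTorsion {2} G → IsIso ((EtCoh.pullPushAdj f).unit.app G))
    (F : EtDesc.Sh Y) : IsIso ((EtDesc.adjSh f).unit.app F) := by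
  have hmono : ∀ F : EtDesc.Sh Y, Mono ((EtDesc.adjSh f).unit.app F) := EtDesc24.mono_unit_of_surjective f
  haveI := (isIso_unit_iff f _).1 (h _ (isLTorsion_freeSh F))
  rw [← isIso_iff_of_reflects_iso _ (sheafToPresheaf _ _), NatTrans.isIso_iff_isIso_app]
  rintro ⟨W⟩
  rw [isIso_iff_bijective]
  refine ⟨(Sets.mono_iff_app_injective _).1 (hmono F) _, fun ξ => ?_⟩
  refine mem_range_unit_of_mono f hmono (toFree F) W ξ ?_
  haveI : IsIso ((EtDesc.adjSh f).unit.app ((toSets Y).obj (freeSh F))).hom :=
    inferInstanceAs (IsIso ((sheafToPresheaf _ _).map _))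
  exact ((isIso_iff_bijective _).1 inferInstance).2 _

theorem isZeroAcyclic_iff_ab (g : X ⟶ Y) [QuasiCompact g] [QuasiSeparated g] :
    EtAcyc.IsZeroAcyclic g ↔ EtAcyc.IsAcyclicN g {2} 0 := by
  constructor
  · intro h
    rw [S3510.result]
    exact fun V G _ => ⟨(isIso_unit_iff _ G).2 (h V _), fun q h1 h0 => absurd h1 (by omega)⟩
  · intro h V F
    haveI : Surjective g := ⟨EtAcyc24.surjective_of_isAcyclicN g {2} 0 ⟨2, rfl, Nat.prime_two⟩ h⟩
    haveI : Surjective (EtAcyc.prj g V) := MorphismProperty.pullback_fst _ _ ‹_›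
    rw [S3510.result] at h
    exact isIso_unit_of_ab _ (fun G hG => (h V G hG).1) F

/-- Pullback of global sections is bijective when the unit is an isomorphism. -/
theorem bijective_secPull_of_isIso_unit (f : X ⟶ Y) (F : EtDesc.Sh Y)
    [IsIso ((EtDesc.adjSh f).unit.app F)] : Function.Bijective (EtDesc.secPull f F) := by
  have : IsIso ((EtDesc.adjSh f).unit.app F).hom := inferInstanceAs (IsIso ((sheafToPresheaf _ _).map _))
  exact (((EtDesc.pullSh f).obj F).obj.mapIso (EtCore.bcTopIso f).op).symm.toEquiv.bijective.comp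
    ((isIso_iff_bijective _).1 (inferInstance : IsIso (((EtDesc.adjSh f).unit.app F).hom.app (op (EtCoh.top Y)))))

/-- A zero-acyclic morphism has bijective pullback of global sections. -/
theorem bijective_secPull_of_isZeroAcyclic (g : X ⟶ Y) (h : EtAcyc.IsZeroAcyclic g) (F : EtDesc.Sh Y) :
    Function.Bijective (EtDesc.secPull g F) := by
  let f := pullback.snd (EtCoh.top Y).hom g
  haveI hI : IsIso (EtCoh.top Y).hom := inferInstanceAs (IsIso (𝟙 Y))
  haveI : IsIso f := @pullback_snd_iso_of_left_iso _ _ _ _ _ (EtCoh.top Y).hom g hI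
  have e : EtAcyc.prj g (EtCoh.top Y) = f ≫ g :=
    (Category.comp_id _).symm.trans (pullback.condition (f := (EtCoh.top Y).hom) (g := g))
  have h' : IsIso ((EtDesc.adjSh (f ≫ g)).unit.app F) := by
    have h0 := h (EtCoh.top Y) F
    rw [show (EtAcyc.prj g (EtCoh.top Y)) = f ≫ g from e] at h0
    exact h0
  haveI := (EtAcyc24.isIso_unit_comp_iff f g F (EtAcyc24.isIso_unit_of_isIso f _)).2 h'
  exact bijective_secPull_of_isIso_unit g F

end Groth.Agent.EtZero9
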